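import Cfsg.Agent.Lib.Unitary.Block
import Cfsg.Agent.Lib.Unitary.Count
import Cfsg.Agent.Lib.Unitary.Generation
import Cfsg.Agent.Lib.AutPSU.Sylow
import Cfsg.Agent.EqLemmas
/-
Elements of SU_{2+m} attached to the isotropic vector e₀ = (1, ε | 0).
* skewGrp, tv: transvection groups; smulFix
* exists_scale, exists_map_pair: movers of e₀ and of (e₀, (0 | v₀))
* radElt, radElt_comm: the unipotent radical with its commutator
* tau: the abelian group of a totally isotropic line; tau_add, tau_line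
* blockEmb: SU_m inside SU_{2+m}
-/
set_option autoImplicit false

namespace Cfsg.Agent.SUMinDegree

open scoped Matrix
open Cfsg.Agent.Unitary

variable {F : Type*} [Field F] [Fintype F] {q n m : ℕ}

/-- The skew elements. -/
def skewGrp (hF : Fintype.card F = q ^ 2) : AddSubgroup F where
  carrier := {c | c + c ^ q = 0}
  zero_mem' := by
    show (0 : F) + 0 ^ q = 0
    rw [zero_pow_q hF, add_zero]
  add_mem' := fun {a b} (ha : a + a ^ q = 0) (hb : b + b ^ q = 0) => by
    show a + b + (a + b) ^ q = 0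
    rw [add_pow_q hF]; linear_combination ha + hb
  neg_mem' := fun {a} (ha : a + a ^ q = 0) => by
    show -a + (-a) ^ q = 0
    rw [neg_pow_q hF]; linear_combination -ha

theorem card_skewGrp (hF : Fintype.card F = q ^ 2) : Nat.card (skewGrp hF) = q := card_trace_zero hF

/-- Scaling the skew elements by a fixed element. -/
def smulFix (hF : Fintype.card F = q ^ 2) (κ : F) (hκ : κ ^ q = κ) : skewGrp hF →+ skewGrp hF where
  toFun c := ⟨κ * c.1, show κ * c.1 + (κ * c.1) ^ q = 0 by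
    rw [mul_pow, hκ, ← mul_add, show c.1 + c.1 ^ q = 0 from c.2, mul_zero]⟩
  map_zero' := Subtype.ext (mul_zero κ)
  map_add' a b := Subtype.ext (mul_add κ a.1 b.1)

theorem smulFix_surjective (hF : Fintype.card F = q ^ 2) {κ : F} (hκ : κ ^ q = κ) (h0 : κ ≠ 0) :
    Function.Surjective (smulFix hF κ hκ) := fun c =>
  ⟨smulFix hF κ⁻¹ (by rw [inv_pow, hκ]) c, Subtype.ext (mul_inv_cancel_left₀ h0 c.1)⟩

/-- The transvection group at an isotropic vector. -/
def tv (hF : Fintype.card F = q ^ 2) (v : Fin n → F) (hv : Cfsg.hermForm n F q v v = 0) (c : skewGrp hF) :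
    Cfsg.SU n F q :=
  suTransvection hF v hv c.1 c.2

theorem suAct_tv (hF : Fintype.card F = q ^ 2) (v : Fin n → F) (hv : Cfsg.hermForm n F q v v = 0)
    (c : skewGrp hF) (x : Fin n → F) :
    suAct (tv hF v hv c) x = x + (c.1 * Cfsg.hermForm n F q x v) • v :=
  suAct_suTransvection hF v x hv c.1 c.2

theorem tv_add (hF : Fintype.card F = q ^ 2) (v : Fin n → F) (hv : Cfsg.hermForm n F q v v = 0)
    (a b : skewGrp hF) : tv hF v hv (a + b) = tv hF v hv a * tv hF v hv b :=
  Subtype.ext (Subtype.ext (transvection_mul v hv a.1 b.1).symm)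

theorem tv_congr (hF : Fintype.card F = q ^ 2) {v w : Fin n → F} {hv : Cfsg.hermForm n F q v v = 0}
    {hw : Cfsg.hermForm n F q w w = 0} {c d : skewGrp hF} (h : v = w) (h' : c = d) :
    tv hF v hv c = tv hF w hw d := by subst h h'; rfl

theorem tv_conj (hF : Fintype.card F = q ^ 2) (g : Cfsg.SU n F q) (v : Fin n → F)
    (hv : Cfsg.hermForm n F q v v = 0) (c : skewGrp hF) :
    g * tv hF v hv c = tv hF (suAct g v) ((suAct_herm g v v).trans hv) c * g :=
  suAct_ext fun x => by
    rw [suAct_mul, suAct_mul, suAct_tv, suAct_tv, suAct_add, suAct_smul, suAct_herm]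

theorem herm_smul_zero (hF : Fintype.card F = q ^ 2) {v : Fin n → F} (a : F)
    (hv : Cfsg.hermForm n F q v v = 0) : Cfsg.hermForm n F q (a • v) (a • v) = 0 := by
  rw [(hermForm_isHerm hF n).smul_left, (hermForm_isHerm hF n).smul_right, hv, mul_zero, mul_zero]

theorem tv_smul (hF : Fintype.card F = q ^ 2) (v : Fin n → F) (a : F)
    (hv : Cfsg.hermForm n F q v v = 0) (c : skewGrp hF) :
    tv hF (a • v) (herm_smul_zero hF a hv) c =
      tv hF v hv (smulFix hF (a ^ (q + 1)) (pow_q_succ_fixed hF a) c) :=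
  suAct_ext fun x => by
    rw [suAct_tv, suAct_tv, (hermForm_isHerm hF n).smul_right, smul_smul]
    show x + (c.1 * (a ^ q * Cfsg.hermForm n F q x v) * a) • v =
      x + (a ^ (q + 1) * c.1 * Cfsg.hermForm n F q x v) • v
    congr 2
    ring

/-- A chosen element of norm `-1`. -/
noncomputable def eps (hF : Fintype.card F = q ^ 2) : F := Classical.choose (exists_eps hF)

theorem eps_norm (hF : Fintype.card F = q ^ 2) : eps hF ^ (q + 1) = -1 :=
  Classical.choose_spec (exists_eps hF)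

/-- The isotropic vector `(1, ε | 0)`. -/
noncomputable def e₀ (hF : Fintype.card F = q ^ 2) (m : ℕ) : Fin (2 + m) → F :=
  Fin.append ![1, eps hF] 0

theorem e₀_ne_zero (hF : Fintype.card F = q ^ 2) (m : ℕ) : e₀ hF m ≠ 0 := fun h => by
  have h1 := congrFun h (Fin.castAdd m 0)
  rw [e₀, Fin.append_left] at h1
  simp at h1

theorem plane_e_e (hF : Fintype.card F = q ^ 2) :
    Cfsg.hermForm 2 F q ![1, eps hF] ![1, eps hF] = 0 := by
  rw [Cfsg.hermForm, Fin.sum_univ_two]
  have := eps_norm hF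
  rw [pow_succ'] at this
  simp [this]

theorem e₀_iso (hF : Fintype.card F = q ^ 2) (m : ℕ) :
    Cfsg.hermForm (2 + m) F q (e₀ hF m) (e₀ hF m) = 0 := by
  rw [e₀, hermForm_append, plane_e_e, (hermForm_isHerm hF m).zero_left, add_zero]

theorem herm_e₀_right (hF : Fintype.card F = q ^ 2) (w : Fin m → F) :
    Cfsg.hermForm (2 + m) F q (e₀ hF m) (Fin.append 0 w) = 0 := by
  rw [e₀, hermForm_append, (hermForm_isHerm hF 2).zero_right hF, (hermForm_isHerm hF m).zero_left,
    add_zero]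

theorem herm_right (hF : Fintype.card F = q ^ 2) (w w' : Fin m → F) :
    Cfsg.hermForm (2 + m) F q (Fin.append 0 w) (Fin.append 0 w') = Cfsg.hermForm m F q w w' := by
  rw [hermForm_append, (hermForm_isHerm hF 2).zero_left, zero_add]

theorem append_zero_smul (a : F) (w : Fin m → F) :
    (Fin.append 0 (a • w) : Fin (2 + m) → F) = a • Fin.append 0 w := by
  funext i
  induction i using Fin.addCases <;> simp

/-! ### Movers -/

omit [Fintype F] in
theorem blockMatrix_det {k m : ℕ} (A : Matrix (Fin k) (Fin k) F) (B : Matrix (Fin m) (Fin m) F) :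
    (blockMatrix A B).det = A.det * B.det := by
  have e : (blockMatrix A B).submatrix finSumFinEquiv finSumFinEquiv = Matrix.fromBlocks A 0 0 B := by
    ext (i | i) (j | j) <;> simp [blockMatrix]
  rw [← Matrix.det_submatrix_equiv_self finSumFinEquiv, e, Matrix.det_fromBlocks_zero₁₂]

theorem exists_levi (hF : Fintype.card F = q ^ 2) {a : F} (ha : a ≠ 0) :
    ∃ D : Matrix (Fin 2) (Fin 2) F, IsUnitary q D ∧ D *ᵥ ![1, eps hF] = a • ![1, eps hF] ∧
      D.det = a / a ^ q := by
  have H := hermForm_isHerm hF 2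
  obtain ⟨α, hα⟩ := exists_trace_eq hF (c := (-1 : F)) (by rw [neg_pow_q hF, one_pow])
  set e : Fin 2 → F := ![1, eps hF] with he
  set f : Fin 2 → F := ![α + 1, α * eps hF] with hfdef
  have hfe : f = α • e + Pi.single 0 1 := by
    funext i; fin_cases i <;> simp [hfdef, he]
  have hee : Cfsg.hermForm 2 F q e e = 0 := plane_e_e hF
  have hes : Cfsg.hermForm 2 F q e (Pi.single 0 1) = 1 := by
    rw [hermForm_single_right hF]; simp [he]
  have hef : Cfsg.hermForm 2 F q e f = 1 := by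
    rw [hfe, H.add_right hF, H.smul_right, hee, hes, mul_zero, zero_add]
  have hfe' : Cfsg.hermForm 2 F q f e = 1 := by rw [H.conj_symm e f, hef, one_pow]
  have hse : Cfsg.hermForm 2 F q (Pi.single 0 1) e = 1 := by rw [H.conj_symm e, hes, one_pow]
  have hff : Cfsg.hermForm 2 F q f f = 0 := by
    rw [hfe, H.add_left, H.add_right hF, H.add_right hF, H.smul_left, H.smul_left, H.smul_right,
      H.smul_right, hee, hes, hse, (single_orthonormal hF 2).1 0]
    linear_combination hα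
  have hli : ∀ c d : F, c ≠ 0 → d ≠ 0 → LinearIndependent F ![c • e, d • f] := by
    intro c d hc hd
    rw [LinearIndependent.pair_iff]
    intro s t hst
    have h1 := congrArg (fun x => Cfsg.hermForm 2 F q x e) hst
    have h2 := congrArg (fun x => Cfsg.hermForm 2 F q x f) hst
    simp only [H.add_left, H.smul_left, H.zero_left, hee, hfe', hef, hff, mul_zero, zero_add, add_zero,
      mul_one, mul_eq_zero, hc, hd, or_false] at h1 h2
    exact ⟨h2, h1⟩
  obtain ⟨g, hg⟩ := exists_gu_witt (u := ![(1 : F) • e, (1 : F) • f]) (w := ![a • e, (a ^ q)⁻¹ • f]) hF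
    (hli 1 1 one_ne_zero one_ne_zero) (hli a _ ha (inv_ne_zero (pow_ne_zero _ ha))) (fun i j => by
      have h1 : a * ((a ^ q)⁻¹) ^ q = 1 := by rw [inv_pow, pow_q_pow_q hF, mul_inv_cancel₀ ha]
      have h2 : (a ^ q)⁻¹ * a ^ q = 1 := inv_mul_cancel₀ (pow_ne_zero _ ha)
      fin_cases i <;> fin_cases j <;>
        simp [H.smul_left, H.smul_right, hee, hef, hfe', hff, h1, h2, ← mul_assoc, zero_pow_q hF, pow_q_pow_q hF, mul_inv_cancel₀ ha])
  set D : Matrix (Fin 2) (Fin 2) F :=
    ((g : Matrix.GeneralLinearGroup (Fin 2) F) : Matrix (Fin 2) (Fin 2) F) with hD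
  have hDe : D *ᵥ e = a • e := by simpa using hg 0
  have hDf : D *ᵥ f = (a ^ q)⁻¹ • f := by simpa using hg 1
  refine ⟨D, g.2, hDe, ?_⟩
  have hB : D * !![1, α + 1; eps hF, α * eps hF] =
      !![1, α + 1; eps hF, α * eps hF] * Matrix.diagonal ![a, (a ^ q)⁻¹] := by
    ext i j
    rw [Matrix.mul_diagonal]
    fin_cases j
    · have h3 := congrFun hDe i
      fin_cases i <;>
        simpa [he, Matrix.mulVec, dotProduct, Matrix.mul_apply, Fin.sum_univ_two, mul_comm] using h3
    · have h3 := congrFun hDf i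
      fin_cases i <;>
        simpa [hfdef, Matrix.mulVec, dotProduct, Matrix.mul_apply, Fin.sum_univ_two, mul_comm] using h3
  have h4 := congrArg Matrix.det hB
  rw [Matrix.det_mul, Matrix.det_mul, Matrix.det_diagonal, Fin.prod_univ_two, mul_comm D.det] at h4
  refine mul_left_cancel₀ ?_ (h4.trans (by simp [div_eq_mul_inv]))
  rw [Matrix.det_fin_two_of]
  have hε : eps hF ≠ 0 := fun h => by
    have := eps_norm hF
    rw [h, zero_pow (Nat.succ_ne_zero q)] at this
    exact one_ne_zero (neg_eq_zero.1 this.symm)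
  intro h0
  exact hε (by linear_combination -h0)

theorem block_apply_left (D : Matrix (Fin 2) (Fin 2) F) (M : Matrix (Fin m) (Fin m) F) (x : Fin 2 → F)
    (a : F) (hD : D *ᵥ x = a • x) :
    blockMatrix D M *ᵥ (Fin.append x 0 : Fin (2 + m) → F) = a • Fin.append x 0 := by
  rw [blockMatrix_mulVec, hD, Matrix.mulVec_zero]
  funext i
  induction i using Fin.addCases <;> simp

theorem exists_scale (hF : Fintype.card F = q ^ 2) (hm : 1 ≤ m) {a : F} (ha : a ≠ 0) :
    ∃ g : Cfsg.SU (2 + m) F q, suAct g (e₀ hF m) = a • e₀ hF m := by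
  obtain ⟨D, hD, hDe, hDd⟩ := exists_levi hF ha
  have haq : a ^ q ≠ 0 := pow_ne_zero _ ha
  obtain ⟨M, hM, hMd, -⟩ := exists_gu_det hF ((single_orthonormal hF m).1 ⟨0, hm⟩) (m := a ^ q / a) (by
    rw [pow_succ, div_pow, pow_q_pow_q hF]; field_simp)
  refine ⟨suOfUnitary (blockMatrix D M) (isUnitary_block hD hM) ?_, block_apply_left D M _ a hDe⟩
  rw [blockMatrix_det, hDd, hMd]
  field_simp

theorem exists_hilbert (hF : Fintype.card F = q ^ 2) {μ : F} (hμ : μ ^ (q + 1) = 1) :
    ∃ l : F, l ≠ 0 ∧ l ^ q = μ * l := by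
  have hμ0 : μ ≠ 0 := fun h => by rw [h, zero_pow (Nat.succ_ne_zero q)] at hμ; exact zero_ne_one hμ
  by_cases h : μ = -1
  · obtain ⟨d, hd0, hd⟩ := exists_skew hF
    exact ⟨d, hd0, by rw [h, hd, neg_one_mul]⟩
  · refine ⟨1 + μ⁻¹, fun h0 => h ?_, ?_⟩
    · rw [← inv_inv μ, eq_neg_of_add_eq_zero_right h0, inv_neg, inv_one]
    · have h1 : (μ⁻¹) ^ q = μ := by
        rw [inv_pow]
        refine inv_eq_of_mul_eq_one_right ?_
        rw [← pow_succ, hμ]
      rw [add_pow_q hF, one_pow, h1, mul_add, mul_one, mul_inv_cancel₀ hμ0, add_comm]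

theorem exists_map_pair (hF : Fintype.card F = q ^ 2) {v0 : Fin m → F} (hv00 : v0 ≠ 0)
    (hv0 : Cfsg.hermForm m F q v0 v0 = 0) {u v : Fin (2 + m) → F} (huv : LinearIndependent F ![u, v])
    (hu : Cfsg.hermForm (2 + m) F q u u = 0) (hv : Cfsg.hermForm (2 + m) F q v v = 0)
    (huv0 : Cfsg.hermForm (2 + m) F q u v = 0) :
    ∃ (g : Cfsg.SU (2 + m) F q) (a : F), a ≠ 0 ∧ suAct g (e₀ hF m) = a • u ∧
      suAct g (Fin.append 0 v0) = v := by
  have H := hermForm_isHerm hF (2 + m)
  have hli : LinearIndependent F ![e₀ hF m, Fin.append 0 v0] := by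
    rw [LinearIndependent.pair_iff]
    intro s t hst
    have h0 := congrFun hst (Fin.castAdd m 0)
    simp [e₀] at h0
    refine ⟨h0, ?_⟩
    by_contra ht
    refine hv00 (funext fun i => ?_)
    have h1 := congrFun hst (Fin.natAdd 2 i)
    simp [e₀, ht] at h1
    exact h1
  have hef := herm_e₀_right hF v0
  have hfe := (H.eq_zero_symm hF).1 hef
  have hff : Cfsg.hermForm (2 + m) F q (Fin.append 0 v0) (Fin.append 0 v0) = 0 := by
    rw [herm_right hF, hv0]
  obtain ⟨g, hg⟩ := exists_gu_witt (u := ![e₀ hF m, Fin.append 0 v0]) (w := ![u, v]) hF hli huv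
    (fun i j => by
      fin_cases i <;> fin_cases j <;>
        simp [hu, hv, huv0, (H.eq_zero_symm hF).1 huv0, e₀_iso, hef, hfe, hff])
  set A : Matrix (Fin (2 + m)) (Fin (2 + m)) F :=
    ((g : Matrix.GeneralLinearGroup (Fin (2 + m)) F) : Matrix (Fin (2 + m)) (Fin (2 + m)) F) with hA
  have hAu : IsUnitary q A := g.2
  have hd := IsUnitary.det_norm hF hAu
  obtain ⟨l, hl0, hl⟩ := exists_hilbert hF hd
  obtain ⟨D, hD, hDe, hDd⟩ := exists_levi hF hl0
  have hB := isUnitary_block (m := m) hD IsUnitary.one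
  refine ⟨suOfUnitary (A * blockMatrix D 1) (hAu.mul hB) ?_, l, hl0, ?_, ?_⟩
  · rw [Matrix.det_mul, blockMatrix_det, hDd, Matrix.det_one, mul_one, ← mul_div_assoc,
      div_eq_one_iff_eq (pow_ne_zero _ hl0), hl]
  · show (A * blockMatrix D 1) *ᵥ _ = _
    rw [← Matrix.mulVec_mulVec, show blockMatrix D 1 *ᵥ e₀ hF m = l • e₀ hF m from
      block_apply_left D 1 _ l hDe, Matrix.mulVec_smul]
    exact congrArg (l • ·) (hg 0)
  · show (A * blockMatrix D 1) *ᵥ _ = _
    rw [← Matrix.mulVec_mulVec, blockMatrix_mulVec, Matrix.mulVec_zero, Matrix.one_mulVec]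
    exact hg 1

/-! ### The radical -/

/-- An element of the unipotent radical with coordinate `w`. -/
noncomputable def radElt (hF : Fintype.card F = q ^ 2) (w : Fin m → F) : Cfsg.SU (2 + m) F q :=
  AutPSU.eichler hF (e₀ hF m) (Fin.append 0 w)
    (Classical.choose (AutPSU.exists_eich_coeff hF (Fin.append 0 w : Fin (2 + m) → F))) (e₀_iso hF m)
    (herm_e₀_right hF w) (Classical.choose_spec (AutPSU.exists_eich_coeff hF _))

/-- The commutator pairing. -/
def comPair (hF : Fintype.card F = q ^ 2) (w w' : Fin m → F) : skewGrp hF :=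
  ⟨Cfsg.hermForm m F q w w' - Cfsg.hermForm m F q w' w, by
    show _ + _ ^ q = 0
    rw [sub_pow_q hF, ← (hermForm_isHerm hF m).conj_symm, ← (hermForm_isHerm hF m).conj_symm]
    ring⟩

theorem radElt_comm_tv (hF : Fintype.card F = q ^ 2) (w : Fin m → F) (c : skewGrp hF) :
    radElt hF w * tv hF (e₀ hF m) (e₀_iso hF m) c = tv hF (e₀ hF m) (e₀_iso hF m) c * radElt hF w := by
  rw [tv_conj]
  congr 1
  refine tv_congr hF ?_ rfl
  have H := hermForm_isHerm hF (2 + m)
  simp [radElt, AutPSU.suAct_eichler, e₀_iso, herm_e₀_right]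

theorem radElt_comm (hF : Fintype.card F = q ^ 2) (w w' : Fin m → F) :
    radElt hF w * radElt hF w' =
      tv hF (e₀ hF m) (e₀_iso hF m) (comPair hF w w') * (radElt hF w' * radElt hF w) := by
  refine suAct_ext fun x => ?_
  have H := hermForm_isHerm hF (2 + m)
  have hne : ∀ z : Fin m → F, Cfsg.hermForm (2 + m) F q (Fin.append 0 z) (e₀ hF m) = 0 := fun z =>
    (H.eq_zero_symm hF).1 (herm_e₀_right hF z)
  simp only [suAct_mul, suAct_tv, radElt, AutPSU.suAct_eichler, H.add_left, H.sub_left, H.smul_left,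
    e₀_iso, herm_e₀_right, hne, herm_right hF, comPair]
  module

/-- Values of the pairing. -/
theorem comPair_sep (hF : Fintype.card F = q ^ 2) {d : Fin m → F} (hd : d ≠ 0) (c : skewGrp hF) :
    ∃ w', comPair hF d w' = c := by
  obtain ⟨θ, hθ⟩ := exists_trace_eq hF (c := (1 : F)) (one_pow _)
  obtain ⟨s, hs⟩ : ∃ s : F, s - s ^ q = c.1 := ⟨θ * c.1, by
    have hc : c.1 + c.1 ^ q = 0 := c.2
    rw [mul_pow]
    linear_combination c.1 * hθ - θ ^ q * hc⟩
  obtain ⟨i, hi⟩ := Function.ne_iff.1 hd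
  have h1 : Cfsg.hermForm m F q d ((s / d i) ^ q • (Pi.single i (1 : F) : Fin m → F)) = s := by
    rw [(hermForm_isHerm hF m).smul_right, pow_q_pow_q hF, hermForm_single_right hF,
      div_mul_cancel₀ _ hi]
  refine ⟨(s / d i) ^ q • Pi.single i (1 : F), Subtype.ext ?_⟩
  show _ - _ = c.1
  rw [(hermForm_isHerm hF m).conj_symm d, h1, hs]

theorem comPair_sub (hF : Fintype.card F = q ^ 2) (w₁ w₂ w' : Fin m → F) :
    comPair hF w₁ w' = comPair hF (w₁ - w₂) w' + comPair hF w₂ w' := by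
  refine Subtype.ext ?_
  have H := hermForm_isHerm hF m
  show _ - _ = (_ - _) + (_ - _)
  rw [H.sub_left, H.sub_right hF]
  ring

/-! ### The line group -/

/-- The element `x ↦ x + b h(x,e) f - b^q h(x,f) e`. -/
noncomputable def offDiag (hF : Fintype.card F = q ^ 2) {v0 : Fin m → F}
    (hv0 : Cfsg.hermForm m F q v0 v0 = 0) (b : F) : Cfsg.SU (2 + m) F q :=
  AutPSU.eichler hF (e₀ hF m) (b • Fin.append 0 v0) 0 (e₀_iso hF m)
    (by rw [(hermForm_isHerm hF (2 + m)).smul_right, herm_e₀_right, mul_zero])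
    (by rw [herm_smul_zero hF b (by rw [herm_right hF, hv0]), zero_pow_q hF]; ring)

/-- The abelian group of the line spanned by e₀ and (0 | v0). -/
noncomputable def tau (hF : Fintype.card F = q ^ 2) {v0 : Fin m → F}
    (hv0 : Cfsg.hermForm m F q v0 v0 = 0) (s : skewGrp hF × skewGrp hF × F) : Cfsg.SU (2 + m) F q :=
  tv hF (e₀ hF m) (e₀_iso hF m) s.1 *
    tv hF (Fin.append 0 v0) (by rw [herm_right hF, hv0]) s.2.1 * offDiag hF hv0 s.2.2

theorem suAct_tau (hF : Fintype.card F = q ^ 2) {v0 : Fin m → F}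
    (hv0 : Cfsg.hermForm m F q v0 v0 = 0) (s : skewGrp hF × skewGrp hF × F) (x : Fin (2 + m) → F) :
    suAct (tau hF hv0 s) x = x +
      (s.1.1 * Cfsg.hermForm (2 + m) F q x (e₀ hF m) -
        s.2.2 ^ q * Cfsg.hermForm (2 + m) F q x (Fin.append 0 v0)) • e₀ hF m +
      (s.2.1.1 * Cfsg.hermForm (2 + m) F q x (Fin.append 0 v0) +
        s.2.2 * Cfsg.hermForm (2 + m) F q x (e₀ hF m)) • (Fin.append 0 v0 : Fin (2 + m) → F) := by
  have H := hermForm_isHerm hF (2 + m)
  have hfe := (H.eq_zero_symm hF).1 (herm_e₀_right hF v0)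
  have hff : Cfsg.hermForm (2 + m) F q (Fin.append 0 v0) (Fin.append 0 v0) = 0 := by
    rw [herm_right hF, hv0]
  simp only [tau, suAct_mul, suAct_tv, offDiag, AutPSU.suAct_eichler, H.add_left, H.sub_left,
    H.smul_left, H.smul_right, e₀_iso, herm_e₀_right, hfe, hff]
  module

theorem tau_add (hF : Fintype.card F = q ^ 2) {v0 : Fin m → F}
    (hv0 : Cfsg.hermForm m F q v0 v0 = 0) (s t : skewGrp hF × skewGrp hF × F) :
    tau hF hv0 (s + t) = tau hF hv0 s * tau hF hv0 t := by
  refine suAct_ext fun x => ?_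
  have H := hermForm_isHerm hF (2 + m)
  have hfe := (H.eq_zero_symm hF).1 (herm_e₀_right hF v0)
  have hff : Cfsg.hermForm (2 + m) F q (Fin.append 0 v0) (Fin.append 0 v0) = 0 := by
    rw [herm_right hF, hv0]
  simp only [suAct_mul, suAct_tau, H.add_left, H.smul_left, e₀_iso, herm_e₀_right, hfe, hff,
    Prod.fst_add, Prod.snd_add, AddSubgroup.coe_add, add_pow_q hF]
  module

theorem tau_line (hF : Fintype.card F = q ^ 2) {v0 : Fin m → F}
    (hv0 : Cfsg.hermForm m F q v0 v0 = 0) (x : F) (c : skewGrp hF)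
    (h : Cfsg.hermForm (2 + m) F q (x • e₀ hF m + Fin.append 0 v0) (x • e₀ hF m + Fin.append 0 v0) = 0) :
    tv hF (x • e₀ hF m + Fin.append 0 v0) h c =
      tau hF hv0 (smulFix hF (x ^ (q + 1)) (pow_q_succ_fixed hF x) c, c, c.1 * x ^ q) := by
  refine suAct_ext fun y => ?_
  have H := hermForm_isHerm hF (2 + m)
  have hc : c.1 ^ q = -c.1 := eq_neg_of_add_eq_zero_right c.2
  rw [suAct_tv, suAct_tau, H.add_right hF, H.smul_right]
  show _ = y + (x ^ (q + 1) * c.1 * _ - (c.1 * x ^ q) ^ q * _) • _ + _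
  rw [mul_pow, pow_q_pow_q hF, hc]
  module

theorem tau_fst (hF : Fintype.card F = q ^ 2) {v0 : Fin m → F}
    (hv0 : Cfsg.hermForm m F q v0 v0 = 0) (c : skewGrp hF) :
    tau hF hv0 (c, 0, 0) = tv hF (e₀ hF m) (e₀_iso hF m) c :=
  suAct_ext fun x => by simp [suAct_tau, suAct_tv, zero_pow_q hF]

theorem tau_snd (hF : Fintype.card F = q ^ 2) {v0 : Fin m → F}
    (hv0 : Cfsg.hermForm m F q v0 v0 = 0) (c : skewGrp hF) :
    tau hF hv0 (0, c, 0) = tv hF (Fin.append 0 v0) (by rw [herm_right hF, hv0]) c :=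
  suAct_ext fun x => by simp [suAct_tau, suAct_tv, zero_pow_q hF]

/-! ### The smaller group -/

/-- `SU_m` inside `SU_{2+m}`. -/
def blockEmb (m : ℕ) (F : Type*) [Field F] (q : ℕ) : Cfsg.SU m F q →* Cfsg.SU (2 + m) F q where
  toFun B := suOfUnitary (blockMatrix 1 ((B : Matrix.SpecialLinearGroup (Fin m) F) : Matrix (Fin m) (Fin m) F))
    (isUnitary_block IsUnitary.one B.2) (by
      rw [blockMatrix_det, Matrix.det_one, one_mul]; exact (B : Matrix.SpecialLinearGroup (Fin m) F).2)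
  map_one' := suAct_ext fun x => by
    rw [← append_split x]
    show blockMatrix 1 1 *ᵥ _ = _
    rw [blockMatrix_mulVec, Matrix.one_mulVec, Matrix.one_mulVec, suAct_one]
  map_mul' A B := suAct_ext fun x => by
    rw [suAct_mul]
    show blockMatrix 1 (_ * _) *ᵥ x = blockMatrix 1 _ *ᵥ (blockMatrix 1 _ *ᵥ x)
    rw [Matrix.mulVec_mulVec, ← blockMatrix_mul, Matrix.one_mul]

theorem suAct_blockEmb (B : Cfsg.SU m F q) (x : Fin 2 → F) (y : Fin m → F) :
    suAct (blockEmb m F q B) (Fin.append x y) = Fin.append x (suAct B y) := by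
  show blockMatrix 1 _ *ᵥ _ = _
  rw [blockMatrix_mulVec, Matrix.one_mulVec]
  rfl

theorem blockEmb_tv (hF : Fintype.card F = q ^ 2) {v0 : Fin m → F}
    (hv0 : Cfsg.hermForm m F q v0 v0 = 0) (c : skewGrp hF) :
    blockEmb m F q (tv hF v0 hv0 c) = tv hF (Fin.append 0 v0) (by rw [herm_right hF, hv0]) c := by
  refine suAct_ext fun x => ?_
  rw [← append_split x, suAct_blockEmb, suAct_tv, suAct_tv, hermForm_append,
    (hermForm_isHerm hF 2).zero_right hF, zero_add]
  funext i
  induction i using Fin.addCases <;> simp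

end Cfsg.Agent.SUMinDegree
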