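import Mathlib.Analysis.Fourier.FiniteAbelian.PontryaginDuality
import Mathlib.LinearAlgebra.Trace
import Mathlib.RepresentationTheory.Basic
import Cfsg.Agent.EqLemmas
/-
Eigenspaces of an abelian subgroup in a complex representation.
* eig ρ t ψ: vectors v with ρ (t c) v = ψ c • v
* sum_finrank_eig; exists_char_of_moves; mapsTo_eig; card_le_sq_finrank (commutation bound)
* restrictRep: a representation of a subgroup on an invariant subspace
-/
set_option autoImplicit false

namespace Cfsg.Agent.SUMinDegree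

open Module

variable {G : Type*} [Group G] {V : Type*} [AddCommGroup V] [Module ℂ V] (ρ : Representation ℂ G V)
  {S : Type*} [AddCommGroup S] (t : S → G)

/-- The eigenspace of a character. -/
noncomputable def eig (ψ : AddChar S ℂ) : Submodule ℂ V :=
  ⨅ c, LinearMap.ker (ρ (t c) - ψ c • LinearMap.id)

theorem mem_eig {ψ : AddChar S ℂ} {v : V} : v ∈ eig ρ t ψ ↔ ∀ c, ρ (t c) v = ψ c • v := by
  simp [eig, sub_eq_zero]

/-- The averaged projection onto an eigenspace. -/
noncomputable def proj [Fintype S] (ψ : AddChar S ℂ) : V →ₗ[ℂ] V :=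
  (Fintype.card S : ℂ)⁻¹ • ∑ c, ψ (-c) • ρ (t c)

variable [Fintype S] (ht : ∀ a b, t (a + b) = t a * t b)
include ht

omit [Fintype S] in
theorem map_zero' : t 0 = 1 := by
  have h := ht 0 0
  rwa [add_zero, left_eq_mul] at h

theorem sum_proj (v : V) : ∑ ψ : AddChar S ℂ, proj ρ t ψ v = v := by
  classical
  have hn : (Fintype.card S : ℂ) ≠ 0 := Nat.cast_ne_zero.2 Fintype.card_ne_zero
  simp only [proj, LinearMap.smul_apply, LinearMap.sum_apply, ← Finset.smul_sum]
  rw [Finset.sum_comm]
  simp only [← Finset.sum_smul, AddChar.sum_apply_eq_ite, neg_eq_zero, ite_smul, zero_smul,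
    Finset.sum_ite_eq', Finset.mem_univ, if_true, map_zero' t ht, map_one, Module.End.one_apply,
    smul_smul, inv_mul_cancel₀ hn, one_smul]

theorem isProj_proj (ψ : AddChar S ℂ) : LinearMap.IsProj (eig ρ t ψ) (proj ρ t ψ) := by
  have hn : (Fintype.card S : ℂ) ≠ 0 := Nat.cast_ne_zero.2 Fintype.card_ne_zero
  constructor
  · intro v
    rw [mem_eig]
    intro d
    simp only [proj, LinearMap.smul_apply, LinearMap.sum_apply, map_smul, map_sum]
    rw [smul_comm, Finset.smul_sum (r := ψ d)]
    congr 1
    refine Fintype.sum_equiv (Equiv.addLeft d) _ _ fun c => ?_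
    rw [Equiv.coe_addLeft, smul_smul, ← AddChar.map_add_eq_mul, neg_add_rev, add_comm (-c),
      add_neg_cancel_left, ← Module.End.mul_apply, ← map_mul, ← ht]
  · intro v hv
    rw [mem_eig] at hv
    simp only [proj, LinearMap.smul_apply, LinearMap.sum_apply, hv, smul_smul, ← AddChar.map_add_eq_mul,
      neg_add_cancel, AddChar.map_zero_eq_one, one_smul, Finset.sum_const, Finset.card_univ]
    rw [← Nat.cast_smul_eq_nsmul ℂ, smul_smul, inv_mul_cancel₀ hn, one_smul]

theorem sum_finrank_eig [FiniteDimensional ℂ V] :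
    ∑ ψ : AddChar S ℂ, finrank ℂ (eig ρ t ψ) = finrank ℂ V := by
  apply Nat.cast_injective (R := ℂ)
  rw [Nat.cast_sum, ← LinearMap.trace_one ℂ V]
  simp only [← (isProj_proj ρ t ht _).trace]
  rw [← map_sum]
  congr 1
  ext v
  rw [LinearMap.sum_apply, sum_proj ρ t ht]
  rfl

/-- A non-trivial element has a non-trivial eigenvalue. -/
theorem exists_char_of_moves {c : S} {v : V} (h : ρ (t c) v ≠ v) :
    ∃ ψ : AddChar S ℂ, ψ c ≠ 1 ∧ eig ρ t ψ ≠ ⊥ := by
  by_contra hc
  push Not at hc
  refine h ?_
  conv_lhs => rw [← sum_proj ρ t ht v]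
  conv_rhs => rw [← sum_proj ρ t ht v]
  rw [map_sum]
  refine Finset.sum_congr rfl fun ψ _ => ?_
  have hm : proj ρ t ψ v ∈ eig ρ t ψ := (isProj_proj ρ t ht ψ).map_mem v
  by_cases h1 : ψ c = 1
  · rw [(mem_eig ρ t).1 hm c, h1, one_smul]
  · rw [hc ψ h1, Submodule.mem_bot] at hm
    rw [hm, map_zero]

omit [Fintype S] ht in
/-- An element normalising the subgroup moves eigenspaces to eigenspaces. -/
theorem mapsTo_eig {g : G} {σ : S → S} (hσ : Function.Surjective σ) (hg : ∀ c, g * t c = t (σ c) * g)
    {ψ ψ' : AddChar S ℂ} (hψ : ∀ c, ψ' (σ c) = ψ c) {v : V} (hv : v ∈ eig ρ t ψ) :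
    ρ g v ∈ eig ρ t ψ' := by
  rw [mem_eig] at hv ⊢
  intro d
  obtain ⟨c, rfl⟩ := hσ d
  rw [← Module.End.mul_apply, ← map_mul, ← hg, map_mul, Module.End.mul_apply, hv, map_smul, hψ]

omit [Fintype S] ht in
theorem rep_injective (g : G) : Function.Injective (ρ g) := by
  intro a b h
  have := congrArg (ρ g⁻¹) h
  rwa [← Module.End.mul_apply, ← Module.End.mul_apply, ← map_mul, inv_mul_cancel, map_one] at this

omit [Fintype S] ht in
/-- Elements commuting up to the central character give a square-dimension bound. -/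
theorem card_le_sq_finrank [FiniteDimensional ℂ V] {W : Type*} [Fintype W] (x : W → G) {ψ : AddChar S ℂ}
    (hne : eig ρ t ψ ≠ ⊥) (hx : ∀ w c, x w * t c = t c * x w) (β : W → W → S)
    (hcomm : ∀ w w', x w * x w' = t (β w w') * (x w' * x w))
    (hsep : ∀ w₁ w₂, w₁ ≠ w₂ → ∃ w', ψ (β w₁ w') ≠ ψ (β w₂ w')) :
    Fintype.card W ≤ finrank ℂ (eig ρ t ψ) * finrank ℂ (eig ρ t ψ) := by
  classical
  set E := eig ρ t ψ with hE
  have hmem : ∀ w, ∀ v ∈ E, ρ (x w) v ∈ E := fun w v hv =>
    mapsTo_eig ρ t (σ := id) Function.surjective_id (hx w) (fun _ => rfl) hv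
  let X : W → (E →ₗ[ℂ] E) := fun w => (ρ (x w)).restrict (hmem w)
  have hinj : ∀ w (u : E), X w u = 0 → u = 0 := fun w u h => by
    refine Subtype.ext (rep_injective ρ (x w) ?_)
    rw [Submodule.coe_zero, map_zero]
    exact congrArg Subtype.val h
  have hcX : ∀ w w' (u : E), X w (X w' u) = ψ (β w w') • X w' (X w u) := fun w w' u => by
    refine Subtype.ext ?_
    show ρ (x w) (ρ (x w') u.1) = ψ (β w w') • ρ (x w') (ρ (x w) u.1)
    rw [← Module.End.mul_apply, ← map_mul, hcomm, map_mul, Module.End.mul_apply, map_mul,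
      Module.End.mul_apply]
    exact (mem_eig ρ t).1 (hmem w' _ (hmem w _ u.2)) _
  have hne' : Nontrivial E := Submodule.nontrivial_iff_ne_bot.2 hne
  have hli : LinearIndependent ℂ X := by
    rw [linearIndependent_iff']
    intro s
    induction s using Finset.induction_on with
    | empty => simp
    | insert a s ha ih =>
      intro g hg
      have hs : ∀ w ∈ s, g w = 0 := by
        intro w hw
        obtain ⟨w', hw'⟩ := hsep w a (fun e => ha (e ▸ hw))
        have h1 : ∑ i ∈ insert a s, g i • ψ (β i w') • X i = 0 := by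
          refine LinearMap.ext fun u => ?_
          have h2 := LinearMap.congr_fun hg (X w' u)
          simp only [LinearMap.sum_apply, LinearMap.smul_apply, LinearMap.zero_apply] at h2
          rw [Finset.sum_congr rfl fun i _ => congrArg (g i • ·) (hcX i w' u)] at h2
          have h3 : X w' (∑ i ∈ insert a s, g i • ψ (β i w') • X i u) = 0 := by
            simpa only [map_sum, map_smul] using h2
          simpa only [LinearMap.sum_apply, LinearMap.smul_apply, LinearMap.zero_apply] using hinj w' _ h3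
        have h4 : ∑ i ∈ s, (g i * (ψ (β i w') - ψ (β a w'))) • X i = 0 := by
          have h5 : ∑ i ∈ insert a s, (g i * (ψ (β i w') - ψ (β a w'))) • X i = 0 := by
            have e : ∀ i, (g i * (ψ (β i w') - ψ (β a w'))) • X i =
                g i • ψ (β i w') • X i - ψ (β a w') • g i • X i := fun i => by module
            rw [Finset.sum_congr rfl fun i _ => e i, Finset.sum_sub_distrib, h1, ← Finset.smul_sum, hg,
              smul_zero, sub_zero]
          rwa [Finset.sum_insert ha, sub_self, mul_zero, zero_smul, zero_add] at h5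
        exact (mul_eq_zero.1 (ih _ h4 w hw)).resolve_right (sub_ne_zero.2 hw')
      have hga : g a = 0 := by
        rw [Finset.sum_insert ha, Finset.sum_eq_zero (fun i hi => by rw [hs i hi, zero_smul]), add_zero,
          smul_eq_zero] at hg
        refine hg.resolve_right fun h => ?_
        obtain ⟨u, hu⟩ := exists_ne (0 : E)
        exact hu (hinj a u (LinearMap.congr_fun h u))
      intro i hi
      rcases Finset.mem_insert.1 hi with rfl | hi
      · exact hga
      · exact hs i hi
  calc Fintype.card W ≤ finrank ℂ (E →ₗ[ℂ] E) := hli.fintype_card_le_finrank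
    _ = _ := Module.finrank_linearMap ℂ ℂ E E

omit [Fintype S] ht in
/-- A representation of a subgroup on an invariant subspace. -/
noncomputable def restrictRep (P : Subgroup G) (E : Submodule ℂ V) (h : ∀ g ∈ P, ∀ v ∈ E, ρ g v ∈ E) :
    Representation ℂ P E where
  toFun g := (ρ g.1).restrict (h g.1 g.2)
  map_one' := by ext v; simp
  map_mul' a b := by ext v; simp

end Cfsg.Agent.SUMinDegree
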