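import Cfsg.Agent.Lib.SUMinDegree.Eigen
import Cfsg.Agent.Lib.SUMinDegree.Elements
import Cfsg.Agent.Lib.Unitary.Simple
import Mathlib.RepresentationTheory.Irreducible
import Cfsg.Agent.EqLemmas
/-
Lower bound for the degree of a representation of SU_{2+m}(q) in which a transvection acts non-trivially.
* orbit_bound: (q-1) d + dim of the fixed space ≤ dim V
* smulFix_dual, offDual: characters of the skew elements and of F through one non-trivial character
* descend: a root element of the orthogonal complement moves a vector fixed by the root group at e₀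
* degree_bound, degree_bound_irreducible: q^n ≤ (q+1) dim V + (1 or q)
-/
set_option autoImplicit false

namespace Cfsg.Agent.SUMinDegree

open Module Cfsg.Agent.Unitary
open scoped Matrix

variable {F : Type*} [Field F] [Fintype F] {q n m : ℕ}

theorem eq_one_of_dvd_smul (hF : Fintype.card F = q ^ 2) {κ : F} (hκ : κ ^ q = κ) (h0 : κ ≠ 0)
    {ψ : AddChar (skewGrp hF) ℂ} (h : ∀ c, ψ (smulFix hF κ hκ c) = 1) : ψ = 1 := by
  ext c
  obtain ⟨d, rfl⟩ := smulFix_surjective hF hκ h0 c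
  rw [h d, AddChar.one_apply]

theorem smulFix_injective_char (hF : Fintype.card F = q ^ 2) {ψ : AddChar (skewGrp hF) ℂ} (hψ : ψ ≠ 1) :
    Function.Injective fun κ : {x : F // x ^ q = x} => ψ.compAddMonoidHom (smulFix hF κ.1 κ.2) := by
  intro κ κ' h
  refine Subtype.ext (sub_eq_zero.1 (by_contra fun h0 => hψ ?_))
  refine eq_one_of_dvd_smul hF (κ := κ.1 - κ'.1) (by rw [sub_pow_q hF, κ.2, κ'.2]) h0 fun c => ?_
  have h1 : ψ (smulFix hF κ.1 κ.2 c) = ψ (smulFix hF κ'.1 κ'.2 c) := DFunLike.congr_fun h c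
  have e : smulFix hF (κ.1 - κ'.1) (by rw [sub_pow_q hF, κ.2, κ'.2]) c =
      smulFix hF κ.1 κ.2 c - smulFix hF κ'.1 κ'.2 c := Subtype.ext (sub_mul κ.1 κ'.1 c.1)
  rw [e, sub_eq_add_neg, AddChar.map_add_eq_mul, h1, ← AddChar.map_add_eq_mul, add_neg_cancel,
    AddChar.map_zero_eq_one]

/-- Every character is a multiple of a given non-trivial one. -/
theorem smulFix_dual (hF : Fintype.card F = q ^ 2) {ψ : AddChar (skewGrp hF) ℂ} (hψ : ψ ≠ 1)
    (χ : AddChar (skewGrp hF) ℂ) :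
    ∃ κ : {x : F // x ^ q = x}, ∀ c, χ c = ψ (smulFix hF κ.1 κ.2 c) := by
  have := Fintype.ofFinite (skewGrp hF)
  have hc : Nat.card {x : F // x ^ q = x} = Nat.card (AddChar (skewGrp hF) ℂ) := by
    rw [card_fixed hF, Nat.card_eq_fintype_card, AddChar.card_eq, ← Nat.card_eq_fintype_card,
      card_skewGrp hF]
  obtain ⟨κ, hκ⟩ := ((Nat.bijective_iff_injective_and_card _).2 ⟨smulFix_injective_char hF hψ, hc⟩).2 χ
  exact ⟨κ, fun c => (DFunLike.congr_fun hκ c).symm⟩

/-- `b ↦ a b - (a b)^q`. -/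
def skewPart (hF : Fintype.card F = q ^ 2) (a : F) : F →+ skewGrp hF where
  toFun b := ⟨a * b - (a * b) ^ q, show _ + _ ^ q = 0 by rw [sub_pow_q hF, pow_q_pow_q hF]; ring⟩
  map_zero' := Subtype.ext (by simp [zero_pow_q hF])
  map_add' b b' := Subtype.ext (by
    show a * (b + b') - (a * (b + b')) ^ q = (a * b - (a * b) ^ q) + (a * b' - (a * b') ^ q)
    rw [mul_add, add_pow_q hF]; ring)

theorem skewPart_surjective (hF : Fintype.card F = q ^ 2) {a : F} (ha : a ≠ 0) :
    Function.Surjective (skewPart hF a) := fun c => by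
  obtain ⟨θ, hθ⟩ := exists_trace_eq hF (c := (1 : F)) (one_pow _)
  refine ⟨θ * c.1 / a, Subtype.ext ?_⟩
  have hc : c.1 + c.1 ^ q = 0 := c.2
  show a * (θ * c.1 / a) - (a * (θ * c.1 / a)) ^ q = c.1
  rw [mul_div_cancel₀ _ ha, mul_pow]
  linear_combination c.1 * hθ - θ ^ q * hc

/-- Every character of F comes from a given non-trivial character of the skew elements. -/
theorem offDual (hF : Fintype.card F = q ^ 2) {ψ : AddChar (skewGrp hF) ℂ} (hψ : ψ ≠ 1)
    (χ : AddChar F ℂ) : ∃ a : F, ∀ b, χ b = ψ (skewPart hF a b) := by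
  have hinj : Function.Injective fun a : F => ψ.compAddMonoidHom (skewPart hF a) := by
    intro a a' h
    refine sub_eq_zero.1 (by_contra fun h0 => hψ ?_)
    ext c
    obtain ⟨b, rfl⟩ := skewPart_surjective hF h0 c
    have h1 : ψ (skewPart hF a b) = ψ (skewPart hF a' b) := DFunLike.congr_fun h b
    have e : skewPart hF (a - a') b = skewPart hF a b - skewPart hF a' b := Subtype.ext (by
      show (a - a') * b - ((a - a') * b) ^ q = (a * b - (a * b) ^ q) - (a' * b - (a' * b) ^ q)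
      rw [sub_mul, sub_pow_q hF]; ring)
    rw [e, sub_eq_add_neg, AddChar.map_add_eq_mul, h1, ← AddChar.map_add_eq_mul, add_neg_cancel,
      AddChar.map_zero_eq_one, AddChar.one_apply]
  have hc : Nat.card F = Nat.card (AddChar F ℂ) := by
    rw [Nat.card_eq_fintype_card, Nat.card_eq_fintype_card, AddChar.card_eq]
  obtain ⟨a, ha⟩ := ((Nat.bijective_iff_injective_and_card _).2 ⟨hinj, hc⟩).2 χ
  exact ⟨a, fun b => (DFunLike.congr_fun ha b).symm⟩

/-- A scaled root group gives q-1 non-trivial eigenspaces. -/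
theorem orbit_bound (hF : Fintype.card F = q ^ 2) {G : Type*} [Group G] {V : Type*} [AddCommGroup V]
    [Module ℂ V] [FiniteDimensional ℂ V] (ρ : Representation ℂ G V) (t : skewGrp hF → G)
    (ht : ∀ a b, t (a + b) = t a * t b)
    (hscale : ∀ (κ : F) (hκ : κ ^ q = κ), κ ≠ 0 → ∃ g, ∀ c, g * t c = t (smulFix hF κ hκ c) * g)
    {c₀ : skewGrp hF} {v : V} (hv : ρ (t c₀) v ≠ v) {d : ℕ}
    (hd : ∀ ψ : AddChar (skewGrp hF) ℂ, ψ ≠ 1 → eig ρ t ψ ≠ ⊥ → d ≤ finrank ℂ (eig ρ t ψ)) :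
    (q - 1) * d + finrank ℂ (eig ρ t 1) ≤ finrank ℂ V := by
  classical
  have := Fintype.ofFinite (skewGrp hF)
  obtain ⟨ψ₀, hψc, hψe⟩ := exists_char_of_moves ρ t ht hv
  have hψ₀ : ψ₀ ≠ 1 := fun h => hψc (by rw [h, AddChar.one_apply])
  have hq := two_le_q hF
  let K := {x : F // x ^ q = x}
  let f : K → AddChar (skewGrp hF) ℂ := fun κ => ψ₀.compAddMonoidHom (smulFix hF κ.1 κ.2)
  have hf : Function.Injective f := smulFix_injective_char hF hψ₀
  let k0 : K := ⟨0, zero_pow_q hF⟩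
  have hf0 : f k0 = 1 := by
    refine DFunLike.ext _ _ fun c => ?_
    show ψ₀ (smulFix hF 0 _ c) = 1
    rw [show smulFix hF 0 (zero_pow_q hF) c = 0 from Subtype.ext (zero_mul c.1),
      AddChar.map_zero_eq_one]
  have hlow : ∀ κ : K, κ ≠ k0 → d ≤ finrank ℂ (eig ρ t (f κ)) := fun κ hκ => by
    have h0 : κ.1 ≠ 0 := fun h => hκ (Subtype.ext h)
    refine hd _ (fun h => hκ (hf (h.trans hf0.symm))) fun hbot => hψe ?_
    obtain ⟨g, hg⟩ := hscale κ.1⁻¹ (by rw [inv_pow, κ.2]) (inv_ne_zero h0)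
    refine eq_bot_iff.2 fun u hu => ?_
    have h1 : ρ g u ∈ eig ρ t (f κ) :=
      mapsTo_eig ρ t (smulFix_surjective hF _ (inv_ne_zero h0)) hg (fun c => by
        show ψ₀ (smulFix hF κ.1 κ.2 (smulFix hF κ.1⁻¹ _ c)) = ψ₀ c
        exact congrArg ψ₀ (Subtype.ext (mul_inv_cancel_left₀ h0 c.1))) hu
    rw [hbot, Submodule.mem_bot] at h1
    exact (Submodule.mem_bot ℂ).2 (rep_injective ρ g (h1.trans (map_zero _).symm))
  have hK : Fintype.card K = q := by rw [← Nat.card_eq_fintype_card]; exact card_fixed hF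
  calc (q - 1) * d + finrank ℂ (eig ρ t 1)
      ≤ (∑ κ ∈ (Finset.univ : Finset K).erase k0, finrank ℂ (eig ρ t (f κ))) +
          finrank ℂ (eig ρ t (f k0)) := by
        rw [hf0]
        refine Nat.add_le_add_right ?_ _
        refine le_trans (le_of_eq ?_) (Finset.card_nsmul_le_sum _ _ d fun κ hκ =>
          hlow κ (Finset.ne_of_mem_erase hκ))
        rw [Finset.card_erase_of_mem (Finset.mem_univ _), Finset.card_univ, hK, smul_eq_mul]
    _ = ∑ κ, finrank ℂ (eig ρ t (f κ)) :=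
        Finset.sum_erase_add _ _ (Finset.mem_univ _)
    _ = ∑ ψ ∈ Finset.univ.image f, finrank ℂ (eig ρ t ψ) :=
        (Finset.sum_image (g := f) (f := fun ψ => finrank ℂ (eig ρ t ψ)) hf.injOn).symm
    _ ≤ ∑ ψ, finrank ℂ (eig ρ t ψ) :=
        Finset.sum_le_sum_of_subset (Finset.subset_univ _)
    _ = finrank ℂ V := sum_finrank_eig ρ t ht

variable {V : Type*} [AddCommGroup V] [Module ℂ V]

/-- The commutation bound on a non-trivial eigenspace of the root group at e₀. -/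
theorem heisenberg (hF : Fintype.card F = q ^ 2) [FiniteDimensional ℂ V]
    (ρ : Representation ℂ (Cfsg.SU (2 + m) F q) V) {ψ : AddChar (skewGrp hF) ℂ} (hψ : ψ ≠ 1)
    (he : eig ρ (tv hF (e₀ hF m) (e₀_iso hF m)) ψ ≠ ⊥) :
    q ^ m ≤ finrank ℂ (eig ρ (tv hF (e₀ hF m) (e₀_iso hF m)) ψ) := by
  classical
  have h := card_le_sq_finrank ρ _ (radElt hF) he (fun w c => radElt_comm_tv hF w c) (comPair hF)
    (fun w w' => radElt_comm hF w w') fun w₁ w₂ hne => by
      obtain ⟨c, hc⟩ : ∃ c, ψ c ≠ 1 := by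
        by_contra hh
        push Not at hh
        exact hψ (DFunLike.ext _ _ fun c => hh c)
      obtain ⟨w', hw'⟩ := comPair_sep hF (sub_ne_zero.2 hne) c
      refine ⟨w', ?_⟩
      rw [comPair_sub hF w₁ w₂, hw', AddChar.map_add_eq_mul]
      intro h
      exact hc ((mul_eq_right₀ (AddChar.val_isUnit ψ _).ne_zero).1 h)
  rw [Fintype.card_fun, Fintype.card_fin, hF, ← pow_mul, pow_mul' q 2 m, sq] at h
  by_contra hlt
  exact absurd h (Nat.not_le.2 (Nat.mul_self_lt_mul_self (Nat.not_le.1 hlt)))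

theorem line_iso (hF : Fintype.card F = q ^ 2) {v0 : Fin m → F}
    (hv0 : Cfsg.hermForm m F q v0 v0 = 0) (x : F) :
    Cfsg.hermForm (2 + m) F q (x • e₀ hF m + Fin.append 0 v0) (x • e₀ hF m + Fin.append 0 v0) = 0 := by
  have H := hermForm_isHerm hF (2 + m)
  rw [H.add_left, H.add_right hF, H.add_right hF, H.smul_left, H.smul_left, H.smul_right, H.smul_right,
    e₀_iso, herm_e₀_right, (H.eq_zero_symm hF).1 (herm_e₀_right hF v0), herm_right hF, hv0]
  simp

/-- A vector fixed by the root group at e₀ and moved by the one at (0 | v0). -/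
theorem descend (hF : Fintype.card F = q ^ 2) {v0 : Fin m → F} (hv00 : v0 ≠ 0)
    (hv0 : Cfsg.hermForm m F q v0 v0 = 0) (ρ : Representation ℂ (Cfsg.SU (2 + m) F q) V)
    {c₀ : skewGrp hF} {v : V} (hv : ρ (tv hF (e₀ hF m) (e₀_iso hF m) c₀) v ≠ v) :
    ∃ (c : skewGrp hF) (w : V), w ∈ eig ρ (tv hF (e₀ hF m) (e₀_iso hF m)) 1 ∧
      ρ (tv hF (Fin.append 0 v0) (by rw [herm_right hF, hv0]) c) w ≠ w := by
  classical
  have := Fintype.ofFinite (skewGrp hF)
  have H := hermForm_isHerm hF (2 + m)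
  have hff : Cfsg.hermForm (2 + m) F q (Fin.append 0 v0) (Fin.append 0 v0) = 0 := by
    rw [herm_right hF, hv0]
  rw [← tau_fst hF hv0] at hv
  obtain ⟨ψ, hψc, hψe⟩ := exists_char_of_moves ρ (tau hF hv0) (tau_add hF hv0) hv
  obtain ⟨u, hu, hu0⟩ := Submodule.exists_mem_ne_zero_of_ne_bot hψe
  rw [mem_eig] at hu
  let ψ₁ : AddChar (skewGrp hF) ℂ := ψ.compAddMonoidHom (AddMonoidHom.inl _ _)
  have hψ₁ : ψ₁ ≠ 1 := fun h => hψc (DFunLike.congr_fun h c₀)
  obtain ⟨⟨μ, hμf⟩, hμ⟩ := smulFix_dual hF hψ₁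
    (ψ.compAddMonoidHom ((AddMonoidHom.inr _ _).comp (AddMonoidHom.inl _ _)))
  obtain ⟨a, ha⟩ := offDual hF hψ₁
    (ψ.compAddMonoidHom ((AddMonoidHom.inr _ _).comp (AddMonoidHom.inr _ _)))
  obtain ⟨y, hy⟩ := exists_norm_eq hF (c := a ^ (q + 1) - μ) (by
    rw [sub_pow_q hF, pow_q_succ_fixed hF, hμf])
  obtain ⟨x, rfl⟩ : ∃ x, y = x + a := ⟨y - a, (sub_add_cancel y a).symm⟩
  -- the transvections at x • e₀ + (0 | v0) fix u
  have hfix : ∀ c, ρ (tv hF _ (line_iso hF hv0 x) c) u = u := fun c => by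
    rw [tau_line hF hv0, hu]
    conv_rhs => rw [← one_smul ℂ u]
    congr 1
    have e : ((smulFix hF (x ^ (q + 1)) (pow_q_succ_fixed hF x) c, c, c.1 * x ^ q) :
        skewGrp hF × skewGrp hF × F) = (smulFix hF (x ^ (q + 1)) (pow_q_succ_fixed hF x) c, 0) +
          ((0, (c, 0)) + (0, (0, c.1 * x ^ q))) := by simp
    rw [e, AddChar.map_add_eq_mul, AddChar.map_add_eq_mul]
    show ψ₁ _ * (_ * _) = 1
    have h2 : ψ (0, (c, 0)) = ψ₁ (smulFix hF μ hμf c) := hμ c
    have h3 : ψ (0, (0, c.1 * x ^ q)) = ψ₁ (skewPart hF a (c.1 * x ^ q)) := ha _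
    rw [h2, h3, ← AddChar.map_add_eq_mul, ← AddChar.map_add_eq_mul]
    refine Eq.trans (congrArg ψ₁ (Subtype.ext ?_)) (AddChar.map_zero_eq_one ψ₁)
    have hc : c.1 ^ q = -c.1 := eq_neg_of_add_eq_zero_right c.2
    show x ^ (q + 1) * c.1 + (μ * c.1 + (a * (c.1 * x ^ q) - (a * (c.1 * x ^ q)) ^ q)) = 0
    rw [pow_succ, add_pow_q hF] at hy
    rw [pow_succ a] at hy
    rw [mul_pow, mul_pow, pow_q_pow_q hF, hc, pow_succ]
    linear_combination c.1 * hy
  have hmov : ρ (tv hF (e₀ hF m) (e₀_iso hF m) c₀) u ≠ u := by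
    rw [← tau_fst hF hv0, hu]
    intro h
    refine hψc (smul_left_injective ℂ hu0 ?_)
    simpa using h
  have horth : Cfsg.hermForm (2 + m) F q (x • e₀ hF m + Fin.append 0 v0) (e₀ hF m) = 0 := by
    rw [H.add_left, H.smul_left, e₀_iso, (H.eq_zero_symm hF).1 (herm_e₀_right hF v0), mul_zero, add_zero]
  have hli : LinearIndependent F ![x • e₀ hF m + Fin.append 0 v0, e₀ hF m] := by
    rw [LinearIndependent.pair_iff]
    intro s t hst
    have h0 : ∀ i, s * v0 i = 0 := fun i => by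
      have h1 := congrFun hst (Fin.natAdd 2 i)
      simpa [e₀] using h1
    have hs : s = 0 := by
      obtain ⟨i, hi⟩ := Function.ne_iff.1 hv00
      exact (mul_eq_zero.1 (h0 i)).resolve_right hi
    subst hs
    simpa [e₀_ne_zero] using hst
  obtain ⟨g, l, hl, hge, hgf⟩ := exists_map_pair hF hv00 hv0 hli (line_iso hF hv0 x) (e₀_iso hF m) horth
  have hgw : ρ g (ρ g⁻¹ u) = u := by
    rw [← Module.End.mul_apply, ← map_mul, mul_inv_cancel, map_one, Module.End.one_apply]
  refine ⟨c₀, ρ g⁻¹ u, (mem_eig _ _).2 fun d => ?_, fun h => hmov ?_⟩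
  · rw [AddChar.one_apply, one_smul]
    refine rep_injective ρ g ?_
    rw [← Module.End.mul_apply, ← map_mul, tv_conj, tv_congr hF (hw := herm_smul_zero hF l
      (line_iso hF hv0 x)) hge rfl, tv_smul hF _ l (line_iso hF hv0 x), map_mul, Module.End.mul_apply, hgw, hfix]
  · have h1 := congrArg (ρ g) h
    rwa [← Module.End.mul_apply, ← map_mul, tv_conj, tv_congr hF (hw := e₀_iso hF m) hgf rfl,
      map_mul, Module.End.mul_apply, hgw] at h1

/-- The stabiliser of the line of e₀. -/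
def lineStab (hF : Fintype.card F = q ^ 2) (m : ℕ) : Subgroup (Cfsg.SU (2 + m) F q) where
  carrier := {g | ∃ l : F, l ≠ 0 ∧ suAct g (e₀ hF m) = l • e₀ hF m}
  one_mem' := ⟨1, one_ne_zero, by rw [suAct_one, one_smul]⟩
  mul_mem' := by
    rintro g h ⟨l, hl, hg⟩ ⟨l', hl', hh⟩
    exact ⟨l' * l, mul_ne_zero hl' hl, by rw [suAct_mul, hh, suAct_smul, hg, smul_smul]⟩
  inv_mem' := by
    rintro g ⟨l, hl, hg⟩
    refine ⟨l⁻¹, inv_ne_zero hl, ?_⟩
    conv_rhs => rw [← suAct_inv_suAct g (e₀ hF m), hg, suAct_smul, smul_smul, inv_mul_cancel₀ hl, one_smul]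

theorem lineStab_eig (hF : Fintype.card F = q ^ 2) (ρ : Representation ℂ (Cfsg.SU (2 + m) F q) V)
    {g : Cfsg.SU (2 + m) F q} (hg : g ∈ lineStab hF m) {w : V}
    (hw : w ∈ eig ρ (tv hF (e₀ hF m) (e₀_iso hF m)) 1) :
    ρ g w ∈ eig ρ (tv hF (e₀ hF m) (e₀_iso hF m)) 1 := by
  obtain ⟨l, hl, hg⟩ := hg
  refine mapsTo_eig ρ _ (smulFix_surjective hF (pow_q_succ_fixed hF l) (pow_ne_zero _ hl))
    (fun c => ?_) (fun c => by simp) hw
  rw [tv_conj, tv_congr hF (hw := herm_smul_zero hF l (e₀_iso hF m)) hg rfl, tv_smul]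

theorem blockEmb_mem (hF : Fintype.card F = q ^ 2) (B : Cfsg.SU m F q) :
    blockEmb m F q B ∈ lineStab hF m :=
  ⟨1, one_ne_zero, by rw [one_smul, e₀, suAct_blockEmb, suAct_zero]⟩

/-- The lower bound. -/
theorem degree_bound (hF : Fintype.card F = q ^ 2) (m : ℕ) (hm : 1 ≤ m) :
    ∀ (V : Type) [AddCommGroup V] [Module ℂ V] [FiniteDimensional ℂ V]
      (ρ : Representation ℂ (Cfsg.SU (2 + m) F q) V) (c : skewGrp hF) (v : V),
      ρ (tv hF (e₀ hF m) (e₀_iso hF m) c) v ≠ v →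
      q ^ (2 + m) ≤ (q + 1) * finrank ℂ V + if Even m then 1 else q := by
  induction m using Nat.strong_induction_on with
  | _ m ih =>
  intro V _ _ _ ρ c v hv
  have hq := two_le_q hF
  obtain ⟨r, hr⟩ : ∃ r, q = r + 1 := ⟨q - 1, by omega⟩
  have hb : (q - 1) * q ^ m + finrank ℂ (eig ρ (tv hF (e₀ hF m) (e₀_iso hF m)) 1) ≤ finrank ℂ V := by
    refine orbit_bound hF ρ _ (tv_add hF _ _) (fun κ hκ h0 => ?_) hv fun ψ h1 h2 => heisenberg hF ρ h1 h2
    obtain ⟨a, ha⟩ := exists_norm_eq hF hκ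
    subst ha
    obtain ⟨g, hg⟩ := exists_scale hF hm (a := a) (fun h => h0 (by simp [h]))
    exact ⟨g, fun c => by rw [tv_conj, tv_congr hF (hw := herm_smul_zero hF a (e₀_iso hF m)) hg rfl, tv_smul]⟩
  rw [show q - 1 = r by omega] at hb
  rcases Nat.lt_or_ge m 2 with h2 | h2
  · obtain rfl : m = 1 := by omega
    rw [if_neg (by decide)]
    subst hr
    have h3 := Nat.mul_le_mul_left (r + 1 + 1) (Nat.le_of_add_right_le hb)
    refine le_trans (le_of_eq ?_) (Nat.add_le_add_right h3 _)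
    ring
  obtain ⟨m', rfl⟩ : ∃ m', m = 2 + m' := ⟨m - 2, by omega⟩
  obtain ⟨c', w, hw, hcw⟩ := descend hF (e₀_ne_zero hF m') (e₀_iso hF m') ρ hv
  let E : Submodule ℂ V := eig ρ (tv hF (e₀ hF (2 + m')) (e₀_iso hF (2 + m'))) 1
  let ρ₀ : Representation ℂ (lineStab hF (2 + m')) E :=
    restrictRep ρ (lineStab hF (2 + m')) E fun g hg w hw => lineStab_eig hF ρ hg hw
  let ι : Cfsg.SU (2 + m') F q →* lineStab hF (2 + m') :=
    (blockEmb (2 + m') F q).codRestrict _ fun B => blockEmb_mem hF B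
  have hmove : (ρ₀.comp ι) (tv hF (e₀ hF m') (e₀_iso hF m') c') ⟨w, hw⟩ ≠ ⟨w, hw⟩ := fun h => hcw (by
    have h1 : ρ (blockEmb (2 + m') F q (tv hF (e₀ hF m') (e₀_iso hF m') c')) w = w := congrArg Subtype.val h
    rwa [blockEmb_tv] at h1)
  rcases Nat.eq_zero_or_pos m' with h0 | h0
  · subst h0
    rw [if_pos (by decide)]
    have hE : (q - 1) * 1 ≤ finrank ℂ E := by
      let t' : skewGrp hF → lineStab hF (2 + 0) := fun c => ι (tv hF (e₀ hF 0) (e₀_iso hF 0) c)
      refine le_trans (Nat.le_add_right _ _) (orbit_bound hF ρ₀ t' (fun a b => ?_) (fun κ hκ h0 => ?_)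
        hmove fun ψ _ h => Submodule.one_le_finrank_iff.2 h)
      · show ι _ = ι _ * ι _
        rw [tv_add, map_mul]
      · obtain ⟨a, ha⟩ := exists_norm_eq hF hκ
        subst ha
        have ha0 : a ≠ 0 := fun h => h0 (by simp [h])
        have H := hermForm_isHerm hF (2 + (2 + 0))
        have hff : Cfsg.hermForm (2 + (2 + 0)) F q (Fin.append 0 (e₀ hF 0)) (Fin.append 0 (e₀ hF 0)) = 0 := by
          rw [herm_right hF, e₀_iso]
        have hli : LinearIndependent F ![e₀ hF (2 + 0), a • Fin.append 0 (e₀ hF 0)] := by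
          rw [LinearIndependent.pair_iff]
          intro s t hst
          have h1 := congrFun hst (Fin.castAdd (2 + 0) 0)
          simp only [Pi.add_apply, Pi.smul_apply, Pi.zero_apply, e₀, Fin.append_left] at h1
          have hs : s = 0 := by simpa using h1
          subst hs
          refine ⟨rfl, ?_⟩
          by_contra ht
          refine e₀_ne_zero hF 0 (funext fun i => ?_)
          have h2 := congrFun hst (Fin.natAdd 2 i)
          simp only [Pi.add_apply, Pi.smul_apply, Pi.zero_apply, Fin.append_right, smul_eq_mul, zero_mul,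
            zero_add, mul_eq_zero, ht, ha0, false_or] at h2
          exact h2
        obtain ⟨g, l, hl, hge, hgf⟩ := exists_map_pair hF (e₀_ne_zero hF 0) (e₀_iso hF 0) hli
          (e₀_iso hF _) (herm_smul_zero hF a hff) (by rw [H.smul_right, herm_e₀_right, mul_zero])
        refine ⟨⟨g, l, hl, hge⟩, fun c => Subtype.ext ?_⟩
        show g * blockEmb (2 + 0) F q _ = blockEmb (2 + 0) F q _ * g
        rw [blockEmb_tv, blockEmb_tv, tv_conj, tv_congr hF (hw := herm_smul_zero hF a hff) hgf rfl, tv_smul]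
    rw [show q - 1 = r by omega, mul_one] at hE
    subst hr
    have h3 : (r + 1 + 1) * (r * (r + 1) ^ (2 + 0) + r) ≤ (r + 1 + 1) * finrank ℂ V :=
      Nat.mul_le_mul_left _ (le_trans (Nat.add_le_add_left hE _) hb)
    refine le_trans (le_of_eq ?_) (Nat.add_le_add_right h3 _)
    ring
  · have h4 := ih m' (by omega) h0 E (ρ₀.comp ι) c' ⟨w, hw⟩ hmove
    have hpar : Even (2 + m') ↔ Even m' := by simp [Nat.even_add]
    simp only [hpar]
    subst hr
    have h3 := Nat.mul_le_mul_left (r + 1 + 1) hb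
    have e : (r + 1) ^ (2 + (2 + m')) + (r + 1) ^ (2 + m') =
        (r + 1 + 1) * (r * (r + 1) ^ (2 + m')) + 2 * (r + 1) ^ (2 + m') := by ring
    rw [mul_add] at h3
    generalize (if Even m' then 1 else r + 1) = z at h4 ⊢
    generalize (r + 1) ^ (2 + (2 + m')) = A at e ⊢
    generalize (r + 1) ^ (2 + m') = B at e h3 h4
    generalize (r + 1 + 1) * (r * B) = C at e h3
    generalize (r + 1 + 1) * finrank ℂ E = D at h3 h4
    generalize (r + 1 + 1) * finrank ℂ V = N at h3 ⊢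
    omega

/-- The lower bound for irreducible representations of degree at least two. -/
theorem degree_bound_irreducible (hF : Fintype.card F = q ^ 2) (hn : 3 ≤ n) (hex : (n, q) ≠ (3, 2)) {k : ℕ}
    (ρ : Representation ℂ (Cfsg.SU n F q) (Fin k → ℂ)) (hρ : ρ.IsIrreducible) (hk : 2 ≤ k) :
    q ^ n ≤ (q + 1) * k + if Even n then 1 else q := by
  have hq := two_le_q hF
  have hgen := transvectionGroup_eq_top hF (n := n) (by
    simp only [ne_eq, Prod.mk.injEq] at hex; omega)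
  obtain ⟨z, hz, hz0, c, v, hv⟩ : ∃ (z : Fin n → F) (hz : Cfsg.hermForm n F q z z = 0), z ≠ 0 ∧
      ∃ (c : skewGrp hF) (v : Fin k → ℂ), ρ (tv hF z hz c) v ≠ v := by
    by_contra hc
    push Not at hc
    have hall : ∀ g, ρ g = 1 := fun g => by
      have h1 : g ∈ transvectionGroup n F q := hgen ▸ Subgroup.mem_top g
      refine Subgroup.closure_induction ?_ (map_one ρ) (fun a b _ _ ha hb => by rw [map_mul, ha, hb, one_mul])
        (fun a _ ha => ?_) h1
      · rintro A ⟨z, c, hz, hA⟩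
        rcases eq_or_ne z 0 with rfl | hz0
        · have : A = 1 := suAct_ext fun x => by
            show (A : Matrix.SpecialLinearGroup (Fin n) F).1 *ᵥ x = _
            rw [hA, transvection_mulVec, smul_zero, add_zero, suAct_one]
          rw [this, map_one]
        · have hcs : c + c ^ q = 0 := (transvection_isometry_iff hF z hz0 hz c).1 (hA ▸ A.2)
          refine LinearMap.ext fun v => ?_
          have hA' : A = tv hF z hz ⟨c, hcs⟩ := Subtype.ext (Subtype.ext hA)
          rw [hA', hc z hz hz0 ⟨c, hcs⟩ v, Module.End.one_apply]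
      · calc ρ a⁻¹ = ρ a⁻¹ * ρ a := by rw [ha, mul_one]
          _ = 1 := by rw [← map_mul, inv_mul_cancel, map_one]
    let i : Fin k := ⟨0, by omega⟩
    let W : Subrepresentation ρ :=
      ⟨ℂ ∙ (Pi.single i 1 : Fin k → ℂ), fun g v hv => by rw [hall g]; exact hv⟩
    have h1 : finrank ℂ W.toSubmodule = 1 :=
      finrank_span_singleton (by simp [i] : (Pi.single i 1 : Fin k → ℂ) ≠ 0)
    rcases IsSimpleOrder.eq_bot_or_eq_top W with h | h
    · rw [h] at h1
      have h2 : finrank ℂ ((⊥ : Subrepresentation ρ).toSubmodule) = 0 := finrank_bot ℂ _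
      omega
    · rw [h] at h1
      have h2 : finrank ℂ ((⊤ : Subrepresentation ρ).toSubmodule) = k :=
        (finrank_top ℂ (Fin k → ℂ)).trans (Module.finrank_fin_fun ℂ)
      omega
  obtain ⟨m, rfl⟩ : ∃ m, n = 2 + m := ⟨n - 2, by omega⟩
  obtain ⟨g, hg⟩ := su_transitive_iso hF hn (e₀_ne_zero hF m) (e₀_iso hF m) hz0 hz
  have hb := degree_bound hF m (by omega) (Fin k → ℂ) ρ c (ρ g⁻¹ v) fun h => hv (by
    have h1 := congrArg (ρ g) h
    rwa [← Module.End.mul_apply, ← map_mul, tv_conj, tv_congr hF (hw := hz) hg rfl, map_mul,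
      Module.End.mul_apply, ← Module.End.mul_apply (ρ g), ← map_mul, mul_inv_cancel, map_one,
      Module.End.one_apply] at h1)
  rw [Module.finrank_fin_fun] at hb
  have hpar : Even (2 + m) ↔ Even m := by simp [Nat.even_add]
  simpa only [hpar] using hb

end Cfsg.Agent.SUMinDegree
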